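import Mathlib

/-! Praeger's bound for pronormal subgroups (S3399): definitions and basic counting. -/

set_option autoImplicit false
open scoped Pointwise
open Finset

namespace CL.Pro

section
variable {G Ω : Type} [Group G] [Fintype Ω] [DecidableEq Ω] [MulAction G Ω]

/-- `g` fixes `S` pointwise. -/
def Fx (S : Finset Ω) (g : G) : Prop := ∀ s ∈ S, g • s = s

variable (G) in
/-- `X` is invariant under the pointwise stabiliser of `S`. -/
def Iv (S X : Finset Ω) : Prop := ∀ g : G, Fx S g → ∀ x ∈ X, g • x ∈ X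

variable (G) in
open Classical in
/-- the blocks: the images of `F`. -/
noncomputable def bl (F : Finset Ω) : Finset (Finset Ω) :=
  univ.filter fun B => ∃ g : G, g • F = B

variable (G) in
open Classical in
/-- the closure of `S`: the intersection of the blocks containing `S`. -/
noncomputable def cl (F S : Finset Ω) : Finset Ω :=
  univ.filter fun x => ∀ B ∈ bl G F, S ⊆ B → x ∈ B

variable (G) in
/-- the number of blocks containing `S`. -/
noncomputable def bb (F S : Finset Ω) : ℕ := ((bl G F).filter fun B => S ⊆ B).card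

variable (G Ω) in
/-- `j`-fold transitivity, in a handy form. -/
def Tro (j : ℕ) : Prop :=
  ∀ S : Finset Ω, S.card ≤ j → ∀ φ : Ω → Ω, Set.InjOn φ S → ∃ g : G, ∀ s ∈ S, g • s = φ s

variable (G) in
/-- What the induction hypothesis gives in a counterexample of least degree. -/
structure Pre (F : Finset Ω) : Prop where
  tr : ∀ a b : Ω, ∃ g : G, g • a = b
  lt : F.card < Fintype.card Ω
  ge : Fintype.card Ω ≤ 2 * F.card
  mov : ∀ B ∈ bl G F, ∀ x ∉ B, ∃ g : G, Fx B g ∧ g • x ≠ x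
  hit : ∀ B ∈ bl G F, ∀ B' ∈ bl G F, ∀ X : Finset Ω, X.Nonempty → Disjoint X B → Iv G B X →
    ¬ X ⊆ B'
  KL : ∀ B ∈ bl G F, ∀ S ⊆ B, S.Nonempty → ∀ X : Finset Ω, X.Nonempty → Disjoint X (cl G F S) →
    Iv G S X → (X ∩ B).card < (X \ B).card
  QL : ∀ B ∈ bl G F, ∀ R ⊆ B, ∀ 𝓒 : Finset (Finset Ω), 𝓒.card < Fintype.card Ω →
    (∀ C ∈ 𝓒, ∀ C' ∈ 𝓒, C ≠ C' → Disjoint C C') →
    (∀ C ∈ 𝓒, ∀ g : G, Fx R g → g • C ∈ 𝓒) →
    (∀ C ∈ 𝓒, ∀ C' ∈ 𝓒, ∃ g : G, Fx R g ∧ g • C = C') →
    2 * (𝓒.filter fun C => ¬ Disjoint C B).card < 𝓒.card ∨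
      ∀ g : G, Fx R g → ∀ C ∈ 𝓒, (C ∩ g • B).card = (C ∩ B).card

variable (G) in
/-- The setting after the first reductions; `j` is the degree of transitivity. -/
structure Ctx (F : Finset Ω) (j : ℕ) : Prop extends Pre G F where
  card : Fintype.card Ω = 2 * F.card
  two : 2 ≤ j
  jlt : j < F.card
  big : 2 * j ≤ F.card + 2
  tro : Tro G Ω j
  ntr : ∃ (S : Finset Ω) (a b : Ω), S.card = j ∧ a ∉ S ∧ b ∉ S ∧ ∀ g : G, Fx S g → g • a ≠ b
  hom : (∀ T T' : Finset Ω, T.card = j + 1 → T'.card = j + 1 → ∃ g : G, g • T = T') → j ≤ 3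

/-- no `(j+2)`-set has two `h`-subsets and two non-`h`-subsets of size `j+1`. -/
def PP (j : ℕ) (h : Finset Ω → Prop) : Prop :=
  ∀ Z : Finset Ω, Z.card = j + 2 → ∀ x ∈ Z, ∀ x' ∈ Z, ∀ y ∈ Z, ∀ y' ∈ Z, x ≠ x' → y ≠ y' →
    h (Z.erase x) → h (Z.erase x') → ¬ h (Z.erase y) → ¬ h (Z.erase y') → False

variable (G) in
/-- an equivariant system of partitions `cm R ·` of the complements of the `(j-1)`-sets `R`. -/
structure Cm (j : ℕ) (cm : Finset Ω → Ω → Finset Ω) : Prop where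
  self : ∀ R a, R.card + 1 = j → a ∉ R → a ∈ cm R a
  disj : ∀ R a, R.card + 1 = j → a ∉ R → Disjoint (cm R a) R
  eq : ∀ R a b, R.card + 1 = j → a ∉ R → b ∈ cm R a → cm R b = cm R a
  smul : ∀ R a (g : G), R.card + 1 = j → a ∉ R → cm (g • R) (g • a) = g • cm R a
  two : ∀ R a, R.card + 1 = j → a ∉ R → 2 ≤ (cm R a).card
  fis : ∀ R a, R.card + 1 = j → a ∉ R → (cm R a).card + 1 ≤ (Rᶜ.image (cm R)).card

omit [Fintype Ω] [DecidableEq Ω] in
theorem Fx.one (S : Finset Ω) : Fx S (1 : G) := fun s _ => one_smul G s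

omit [Fintype Ω] [DecidableEq Ω] in
theorem Fx.mul {S : Finset Ω} {g g' : G} (h : Fx S g) (h' : Fx S g') : Fx S (g * g') :=
  fun s hs => by rw [mul_smul, h' s hs, h s hs]

omit [Fintype Ω] [DecidableEq Ω] in
theorem Fx.inv {S : Finset Ω} {g : G} (h : Fx S g) : Fx S g⁻¹ :=
  fun s hs => by rw [inv_smul_eq_iff, h s hs]

omit [Fintype Ω] [DecidableEq Ω] in
theorem Fx.mono {S S' : Finset Ω} {g : G} (h : Fx S g) (hs : S' ⊆ S) : Fx S' g :=
  fun s h' => h s (hs h')

omit [Fintype Ω] in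
theorem Fx.smul_eq {S : Finset Ω} {g : G} (h : Fx S g) : g • S = S := by
  ext x
  constructor
  · intro hx
    obtain ⟨y, hy, rfl⟩ := Finset.mem_smul_finset.1 hx
    rw [h y hy]; exact hy
  · intro hx
    exact Finset.mem_smul_finset.2 ⟨x, hx, h x hx⟩

omit [Fintype Ω] in
theorem Fx.not_mem {S : Finset Ω} {g : G} (h : Fx S g) {x : Ω} (hx : x ∉ S) : g • x ∉ S := by
  intro h'
  have := h.inv _ h'
  rw [inv_smul_smul] at this
  exact hx (this ▸ h')

omit [Fintype Ω] [DecidableEq Ω] in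
theorem Iv.mono {S S' X : Finset Ω} (h : Iv G S X) (hs : S ⊆ S') : Iv G S' X :=
  fun g hg => h g (hg.mono hs)

theorem mem_bl {F B : Finset Ω} : B ∈ bl G F ↔ ∃ g : G, g • F = B := by
  simp [bl]

theorem self_mem_bl (F : Finset Ω) : F ∈ bl G F := mem_bl.2 ⟨1, one_smul _ _⟩

theorem smul_mem_bl {F B : Finset Ω} (h : B ∈ bl G F) (g : G) : g • B ∈ bl G F := by
  obtain ⟨k, rfl⟩ := mem_bl.1 h
  exact mem_bl.2 ⟨g * k, mul_smul _ _ _⟩

theorem card_of_mem_bl {F B : Finset Ω} (h : B ∈ bl G F) : B.card = F.card := by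
  obtain ⟨k, rfl⟩ := mem_bl.1 h
  exact Finset.card_smul_finset _ _

theorem mem_cl {F S : Finset Ω} {x : Ω} : x ∈ cl G F S ↔ ∀ B ∈ bl G F, S ⊆ B → x ∈ B := by
  simp [cl]

theorem subset_cl (F S : Finset Ω) : S ⊆ cl G F S :=
  fun _ hx => mem_cl.2 fun _ _ h => h hx

theorem cl_subset {F S B : Finset Ω} (hB : B ∈ bl G F) (h : S ⊆ B) : cl G F S ⊆ B :=
  fun _ hx => mem_cl.1 hx B hB h

theorem cl_subset_cl {F S T : Finset Ω} (h : S ⊆ cl G F T) : cl G F S ⊆ cl G F T :=
  fun _ hx => mem_cl.2 fun B hB hT => mem_cl.1 hx B hB (h.trans (cl_subset hB hT))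

theorem smul_mem_cl {F S : Finset Ω} {x : Ω} (g : G) (h : x ∈ cl G F S) :
    g • x ∈ cl G F (g • S) := by
  refine mem_cl.2 fun B hB hS => ?_
  have := mem_cl.1 h _ (smul_mem_bl hB g⁻¹) (by
    intro y hy
    exact Finset.mem_inv_smul_finset_iff.2 (hS (Finset.smul_mem_smul_finset hy)))
  exact Finset.mem_inv_smul_finset_iff.1 this

theorem cl_smul (F S : Finset Ω) (g : G) : cl G F (g • S) = g • cl G F S := by
  ext x
  constructor
  · intro hx
    have := smul_mem_cl g⁻¹ hx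
    rw [inv_smul_smul] at this
    exact Finset.mem_smul_finset.2 ⟨_, this, smul_inv_smul _ _⟩
  · intro hx
    obtain ⟨y, hy, rfl⟩ := Finset.mem_smul_finset.1 hx
    exact smul_mem_cl g hy

theorem iv_cl (F S : Finset Ω) : Iv G S (cl G F S) := fun g hg x hx => by
  have := smul_mem_cl g hx
  rwa [hg.smul_eq] at this

theorem bb_smul (F S : Finset Ω) (g : G) : bb G F (g • S) = bb G F S := by
  unfold bb
  symm
  refine Finset.card_bij (fun B _ => g • B) ?_ ?_ ?_
  · intro B hB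
    rw [Finset.mem_filter] at hB ⊢
    exact ⟨smul_mem_bl hB.1 g, Finset.smul_finset_subset_smul_finset hB.2⟩
  · intro B _ B' _ h
    exact MulAction.injective g h
  · intro B hB
    rw [Finset.mem_filter] at hB
    refine ⟨g⁻¹ • B, Finset.mem_filter.2 ⟨smul_mem_bl hB.1 _, ?_⟩, smul_inv_smul _ _⟩
    intro y hy
    exact Finset.mem_inv_smul_finset_iff.2 (hB.2 (Finset.smul_mem_smul_finset hy))

theorem bb_pos_iff {F S : Finset Ω} : 0 < bb G F S ↔ ∃ B ∈ bl G F, S ⊆ B := by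
  simp [bb, Finset.card_pos, Finset.Nonempty]

theorem bb_le_of_subset_cl {F S T : Finset Ω} (h : S ⊆ cl G F T) : bb G F T ≤ bb G F S := by
  refine Finset.card_le_card fun B hB => ?_
  rw [Finset.mem_filter] at hB ⊢
  exact ⟨hB.1, h.trans (cl_subset hB.1 hB.2)⟩

/-- a subset of `cl T` lying in as few blocks as `T` has the same closure. -/
theorem cl_eq_of_bb {F S T : Finset Ω} (h : S ⊆ cl G F T) (hb : bb G F S ≤ bb G F T) :
    cl G F S = cl G F T := by
  have key : (bl G F).filter (fun B => T ⊆ B) = (bl G F).filter (fun B => S ⊆ B) := by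
    refine Finset.eq_of_subset_of_card_le (fun B hB => ?_) hb
    rw [Finset.mem_filter] at hB ⊢
    exact ⟨hB.1, h.trans (cl_subset hB.1 hB.2)⟩
  refine Finset.Subset.antisymm (cl_subset_cl h) fun x hx => mem_cl.2 fun B hB hS => ?_
  have : B ∈ (bl G F).filter (fun B => T ⊆ B) := key ▸ Finset.mem_filter.2 ⟨hB, hS⟩
  exact mem_cl.1 hx B hB (Finset.mem_filter.1 this).2

/-- double count: pairs (point of `X`, block through `S` and the point). -/
theorem sum_bb_insert (F S X : Finset Ω) :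
    ∑ x ∈ X, bb G F (insert x S) = ∑ B ∈ (bl G F).filter (fun B => S ⊆ B), (X ∩ B).card := by
  unfold bb
  simp only [Finset.card_eq_sum_ones]
  rw [Finset.sum_sigma', Finset.sum_sigma']
  refine Finset.sum_bij' (fun p _ => ⟨p.2, p.1⟩) (fun p _ => ⟨p.2, p.1⟩) ?_ ?_ ?_ ?_ ?_
  · rintro ⟨x, B⟩ h
    simp only [Finset.mem_sigma, Finset.mem_filter, Finset.insert_subset_iff, Finset.mem_inter] at h ⊢
    tauto
  · rintro ⟨B, x⟩ h
    simp only [Finset.mem_sigma, Finset.mem_filter, Finset.insert_subset_iff, Finset.mem_inter] at h ⊢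
    tauto
  all_goals simp

/-- the design recurrence `b_{i+1} (n - i) = b_i (f - i)`. -/
theorem bb_rec (F S : Finset Ω) (c : ℕ) (hc : ∀ x ∉ S, bb G F (insert x S) = c) :
    c * (Fintype.card Ω - S.card) = bb G F S * (F.card - S.card) := by
  have h := sum_bb_insert (G := G) F S Sᶜ
  rw [Finset.sum_congr rfl (fun x hx => hc x (Finset.mem_compl.1 hx)), Finset.sum_const,
    Finset.card_compl, smul_eq_mul] at h
  rw [mul_comm, h, bb, Finset.card_eq_sum_ones, Finset.sum_mul]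
  refine Finset.sum_congr rfl fun B hB => ?_
  rw [Finset.mem_filter] at hB
  have : Sᶜ ∩ B = B \ S := by ext; simp [and_comm]
  rw [this, Finset.card_sdiff_of_subset hB.2, card_of_mem_bl hB.1, one_mul]

omit [Fintype Ω] in
theorem Tro.set {j : ℕ} (h : Tro G Ω j) {S S' : Finset Ω} (hc : S.card = S'.card)
    (hj : S.card ≤ j) : ∃ g : G, g • S = S' := by
  classical
  obtain ⟨e⟩ : Nonempty (S ≃ S') := by
    rw [← Fintype.card_eq]; simpa using hc
  obtain ⟨g, hg⟩ := h S hj (fun x => if hx : x ∈ S then (e ⟨x, hx⟩ : Ω) else x) (by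
    intro x hx y hy hxy
    simp only [Finset.mem_coe] at hx hy
    simp only [hx, hy, dif_pos] at hxy
    have := e.injective (Subtype.ext hxy)
    simpa using this)
  refine ⟨g, Finset.eq_of_subset_of_card_le (fun y hy => ?_) (by rw [Finset.card_smul_finset, hc])⟩
  obtain ⟨x, hx, rfl⟩ := Finset.mem_smul_finset.1 hy
  rw [hg x hx, dif_pos hx]
  exact (e ⟨x, hx⟩).2

omit [Fintype Ω] in
theorem Tro.pt {j : ℕ} (h : Tro G Ω j) {R : Finset Ω} (hj : R.card < j) {a b : Ω} (ha : a ∉ R)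
    (hb : b ∉ R) : ∃ g : G, Fx R g ∧ g • a = b := by
  obtain ⟨g, hg⟩ := h (insert a R) (by rw [Finset.card_insert_of_notMem ha]; omega)
    (fun x => if x = a then b else x) (by
      intro x hx y hy hxy
      simp only [Finset.coe_insert, Set.mem_insert_iff, Finset.mem_coe] at hx hy
      by_cases h1 : x = a <;> by_cases h2 : y = a <;> simp only [h1, h2, if_true, if_false] at hxy
      · rw [h1, h2]
      · exact absurd (hxy ▸ hy.resolve_left h2) hb
      · exact absurd (hxy ▸ hx.resolve_left h1) hb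
      · exact hxy)
  refine ⟨g, fun s hs => ?_, by simpa using hg a (Finset.mem_insert_self _ _)⟩
  have hsa : s ≠ a := fun e => ha (e ▸ hs)
  simpa [hsa] using hg s (Finset.mem_insert_of_mem hs)

theorem Ctx.bb_eq {F : Finset Ω} {j : ℕ} (C : Ctx G F j) {S S' : Finset Ω}
    (hc : S.card = S'.card) (hj : S.card ≤ j) : bb G F S = bb G F S' := by
  obtain ⟨g, rfl⟩ := C.tro.set hc hj
  exact (bb_smul F S g).symm

/-- every set of at most `j` points lies in a block. -/
theorem Ctx.exists_bl {F : Finset Ω} {j : ℕ} (C : Ctx G F j) {S : Finset Ω} (hj : S.card ≤ j) :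
    ∃ B ∈ bl G F, S ⊆ B := by
  obtain ⟨U, hU, hc⟩ := Finset.exists_subset_card_eq (s := F) (n := S.card) (by have := C.jlt; omega)
  rw [← bb_pos_iff, C.bb_eq hc.symm hj, bb_pos_iff]
  exact ⟨F, self_mem_bl F, hU⟩

/-- a nonempty set outside a block and invariant under its pointwise stabiliser has `> j` points. -/
theorem Ctx.lt_card {F : Finset Ω} {j : ℕ} (C : Ctx G F j) {B X : Finset Ω} (hB : B ∈ bl G F)
    (hX : X.Nonempty) (hd : Disjoint X B) (hi : Iv G B X) : j < X.card := by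
  by_contra h
  obtain ⟨B', hB', hs⟩ := C.exists_bl (S := X) (by omega)
  exact C.hit B hB B' hB' X hX hd hi hs

/-- two blocks meet. -/
theorem Ctx.not_disjoint {F : Finset Ω} {j : ℕ} (C : Ctx G F j) {B B' : Finset Ω}
    (hB : B ∈ bl G F) (hB' : B' ∈ bl G F) : ¬ Disjoint B B' := by
  intro h
  have hc : B' = Bᶜ := by
    refine Finset.eq_of_subset_of_card_le (fun x hx => Finset.mem_compl.2 fun hx' =>
      Finset.disjoint_left.1 h hx' hx) ?_
    rw [Finset.card_compl, card_of_mem_bl hB, card_of_mem_bl hB', C.card]; omega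
  refine C.hit B hB B' hB' B' ?_ h.symm ?_ (Finset.Subset.refl _)
  · rw [← Finset.card_pos, card_of_mem_bl hB']; have := C.jlt; omega
  · intro g hg x hx
    rw [hc] at hx ⊢
    exact Finset.mem_compl.2 (hg.not_mem (Finset.mem_compl.1 hx))

end

/-- pronormality, as in the statement. -/
def Pn {G : Type} [Group G] (K : Subgroup G) : Prop :=
  ∀ g : G, ∃ w ∈ K ⊔ K.map (MulAut.conj g).toMonoidHom,
    K.map (MulAut.conj w).toMonoidHom = K.map (MulAut.conj g).toMonoidHom

open Classical in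
/-- the theorem in degree `n` (actions need not be faithful). -/
def Thm (n : ℕ) : Prop :=
  ∀ (G Ω : Type) [Group G] [Finite G] [Fintype Ω] [MulAction G Ω] (K : Subgroup G),
    Fintype.card Ω = n → (∀ a b : Ω, ∃ g : G, g • a = b) → Pn K → (∃ k ∈ K, ∃ x : Ω, k • x ≠ x) →
    2 * (univ.filter fun x : Ω => ∀ k ∈ K, k • x = x).card < n

end CL.Pro
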